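import Cfsg.Agent.Lib.SolvCores.Reduce
import Cfsg.Agent.Lib.Components.Local
import Cfsg.Agent.Lib.RankTwoSylow.Main

/-!
Tools for the dichotomy theorem: four groups, the second core of an involution centraliser, and a
criterion for an odd subgroup of such a centraliser to lie in its odd core.
-/

set_option autoImplicit false
set_option linter.style.haveILetI false

universe u

namespace Cfsg.Agent.Dichotomy

open Subgroup Cfsg.Agent.Signalizer Cfsg.Agent.Signalizer.SFT

variable {G : Type u} [Group G]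

/-- Membership in the group generated by two commuting involutions. -/
theorem mem_four {a b x : G} (ha : a * a = 1) (hb : b * b = 1) (hab : a * b = b * a)
    (hx : x ∈ zpowers a ⊔ zpowers b) : x = 1 ∨ x = a ∨ x = b ∨ x = a * b := by
  have hcl : zpowers a ⊔ zpowers b = closure ({a, b} : Set G) := by
    rw [show ({a, b} : Set G) = {a} ∪ {b} from Set.insert_eq a {b}, Subgroup.closure_union,
      zpowers_eq_closure, zpowers_eq_closure]
  rw [hcl] at hx
  have ha' : a⁻¹ = a := inv_eq_of_mul_eq_one_left ha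
  have hb' : b⁻¹ = b := inv_eq_of_mul_eq_one_left hb
  have h1 : a * (a * b) = b := by rw [← mul_assoc, ha, one_mul]
  have h2 : a * b * b = a := by rw [mul_assoc, hb, mul_one]
  have h3 : b * (a * b) = a := by rw [← mul_assoc, ← hab, h2]
  have h4 : a * b * a = b := by rw [mul_assoc, ← hab, h1]
  have h5 : a * b * (a * b) = 1 := by rw [← mul_assoc, h4, hb]
  induction hx using closure_induction with
  | mem y hy =>
    rcases hy with rfl | rfl
    · exact Or.inr (Or.inl rfl)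
    · exact Or.inr (Or.inr (Or.inl rfl))
  | one => exact Or.inl rfl
  | mul y w _ _ hy hw =>
    rcases hy with rfl | rfl | rfl | rfl <;> rcases hw with rfl | rfl | rfl | rfl <;>
      simp [ha, hb, hab.symm, h1, h2, h3, h4, h5]
  | inv y _ hy =>
    rcases hy with rfl | rfl | rfl | rfl <;> simp [ha', hb', mul_inv_rev, hab.symm]

theorem ea_four [Finite G] {a b : G} (ha : a * a = 1) (hb : b * b = 1) (hab : a * b = b * a) :
    Cfsg.IsElementaryAbelian 2 (zpowers a ⊔ zpowers b) := by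
  refine SFT.ea_sup (SolvCores.ea_zpowers (by rw [pow_two, ha]))
    (SolvCores.ea_zpowers (by rw [pow_two, hb])) fun x hx y hy => ?_
  obtain ⟨i, rfl⟩ := mem_zpowers_iff.1 hx
  obtain ⟨j, rfl⟩ := mem_zpowers_iff.1 hy
  exact ((show Commute a b from hab).zpow_zpow i j).eq

/-- Adjoining an element centralising an elementary group. -/
theorem ea_adjoin [Finite G] {B : Subgroup G} (hB : Cfsg.IsElementaryAbelian 2 B) {x : G} (hx : x * x = 1)
    (hc : ∀ b ∈ B, b * x = x * b) : Cfsg.IsElementaryAbelian 2 (B ⊔ zpowers x) := by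
  refine SFT.ea_sup hB (SolvCores.ea_zpowers (by rw [pow_two, hx])) fun b hb y hy => ?_
  obtain ⟨i, rfl⟩ := mem_zpowers_iff.1 hy
  exact ((show Commute b x from hc b hb).zpow_right i).eq

theorem conj_mem_centralizer {g x y : G} (h : y ∈ centralizer ({x} : Set G)) :
    g * y * g⁻¹ ∈ centralizer ({g * x * g⁻¹} : Set G) := by
  rw [mem_centralizer_singleton_iff] at h ⊢
  calc g * y * g⁻¹ * (g * x * g⁻¹) = g * (y * x) * g⁻¹ := by group
    _ = g * (x * y) * g⁻¹ := by rw [h]
    _ = _ := by group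

/-- The second core of the centraliser of an element, inside the whole group. -/
def coreTwo (x : G) : Subgroup G :=
  (Cfsg.pPrimePCore 2 ↥(centralizer ({x} : Set G))).map (centralizer ({x} : Set G)).subtype

theorem coreTwo_le (x : G) : coreTwo x ≤ centralizer ({x} : Set G) := map_subtype_le _

theorem mem_coreTwo {x y : G} (hy : y ∈ centralizer ({x} : Set G)) :
    y ∈ coreTwo x ↔ (⟨y, hy⟩ : ↥(centralizer ({x} : Set G))) ∈ Cfsg.pPrimePCore 2 _ := by
  constructor
  · rintro ⟨a, ha, rfl⟩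
    exact ha
  · exact fun h => ⟨_, h, rfl⟩

theorem pPrimePCore_map [Finite G] {H : Type*} [Group H] [Finite H] (e : G ≃* H) {y : G}
    (hy : y ∈ Cfsg.pPrimePCore 2 G) : e y ∈ Cfsg.pPrimePCore 2 H := by
  haveI : Fact (Nat.Prime 2) := ⟨Nat.prime_two⟩
  haveI := PPrimePC.pPrimePCore_normal (G := G) (p := 2)
  haveI := FittingCores.pPrimeCore_normal (G := H) 2
  have hn : ((Cfsg.pPrimePCore 2 G).map e.toMonoidHom).Normal :=
    Normal.map inferInstance _ e.surjective
  set π := QuotientGroup.mk' (Cfsg.pPrimeCore 2 H)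
  haveI : (((Cfsg.pPrimePCore 2 G).map e.toMonoidHom).map π).Normal :=
    Normal.map hn π (QuotientGroup.mk'_surjective _)
  refine PBasic.le_pCore (p := 2) (N := ((Cfsg.pPrimePCore 2 G).map e.toMonoidHom).map π) inferInstance
    ?_ ⟨e y, ⟨y, hy, rfl⟩, rfl⟩
  rintro ⟨_, _, ⟨a, ha, rfl⟩, rfl⟩
  obtain ⟨k, hk⟩ := PBasic.pCore_isPGroup 2 (G ⧸ Cfsg.pPrimeCore 2 G) ⟨_, ha⟩
  refine ⟨k, Subtype.ext ?_⟩
  have hk' : a ^ 2 ^ k ∈ Cfsg.pPrimeCore 2 G := by
    rw [← QuotientGroup.eq_one_iff]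
    simpa using congrArg Subtype.val hk
  rw [SubmonoidClass.coe_pow, OneMemClass.coe_one, ← map_pow, MulEquiv.coe_toMonoidHom, ← map_pow]
  refine (QuotientGroup.eq_one_iff _).2 ?_
  have h' : (Cfsg.pPrimeCore 2 G).map e.toMonoidHom ≤ Cfsg.pPrimeCore 2 H :=
    FittingCores.le_pPrimeCore (Normal.map (FittingCores.pPrimeCore_normal 2) _ e.surjective) (by
      rw [card_map_of_injective e.injective]; exact PBasic.pPrimeCore_coprime 2 G)
  exact h' ⟨_, hk', rfl⟩

theorem coreTwo_conj [Finite G] {x y : G} (g : G) (hy : y ∈ coreTwo x) :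
    g * y * g⁻¹ ∈ coreTwo (g * x * g⁻¹) := by
  obtain ⟨a, ha, rfl⟩ := hy
  have hmap : (centralizer ({x} : Set G)).map (MulAut.conj g).toMonoidHom =
      centralizer ({g * x * g⁻¹} : Set G) := by
    ext w
    constructor
    · rintro ⟨v, hv, rfl⟩
      exact conj_mem_centralizer hv
    · intro hw
      refine ⟨g⁻¹ * w * g, ?_, by simp [mul_assoc]⟩
      have := conj_mem_centralizer (g := g⁻¹) hw
      simpa [mul_assoc] using this
  refine ⟨_, pPrimePCore_map (((centralizer ({x} : Set G)).equivMapOfInjective _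
    (MulAut.conj g).injective).trans (MulEquiv.subgroupCongr hmap)) ha, rfl⟩

variable [Finite G]

/-- Central elements of a Sylow subgroup lie in the second core of a constrained group. -/
theorem mem_of_central {K : Type*} [Group K] [Finite K] (hK : Cfsg.IsPConstrained 2 K)
    (T : Sylow 2 K) {k : K} (hc : ∀ t ∈ T, t * k = k * t) : k ∈ Cfsg.pPrimePCore 2 K := by
  haveI : Fact (Nat.Prime 2) := ⟨Nat.prime_two⟩
  set π := QuotientGroup.mk' (Cfsg.pPrimeCore 2 K) with hπ
  refine Components.isPConstrained_iff_charP.1 hK (mem_centralizer_iff.2 fun r hr => ?_)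
  obtain ⟨a, rfl⟩ := QuotientGroup.mk'_surjective _ r
  have ha : a ∈ PPrimePC.coreH 2 (T : Subgroup K) ⊔ Cfsg.pPrimeCore 2 K :=
    PPrimePC.pPrimePCore_le_sup T hr
  haveI := FittingCores.pPrimeCore_normal (G := K) 2
  obtain ⟨q, hq, o, ho, rfl⟩ := mem_sup_of_normal_right.1 ha
  rw [map_mul, show π o = 1 from (QuotientGroup.eq_one_iff o).2 ho, mul_one, ← map_mul, ← map_mul,
    hc q hq.1]

/-- An element acting on the second core as a subgroup of order two in the centre lies in it. -/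
theorem mem_of_chain {K : Type*} [Group K] [Finite K] (hK : Cfsg.IsPConstrained 2 K)
    (T : Sylow 2 K) {z k : K} (hzc : ∀ a : K, a * z = z * a) (hz : z * z = 1) (hk : k * k = 1)
    (hkc : ∀ t ∈ T, k * t * k⁻¹ = t ∨ k * t * k⁻¹ = z * t) : k ∈ Cfsg.pPrimePCore 2 K := by
  haveI : Fact (Nat.Prime 2) := ⟨Nat.prime_two⟩
  haveI := FittingCores.pPrimeCore_normal (G := K) 2
  set π := QuotientGroup.mk' (Cfsg.pPrimeCore 2 K) with hπ
  set R := Cfsg.pCore 2 (K ⧸ Cfsg.pPrimeCore 2 K) with hR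
  set w := π z with hw
  have hwc : ∀ a, a * w = w * a := fun a => by
    obtain ⟨b, rfl⟩ := QuotientGroup.mk'_surjective _ a
    rw [← map_mul, ← map_mul, hzc]
  have hw2 : w * w = 1 := by rw [← map_mul, hz, map_one]
  let L : Subgroup (K ⧸ Cfsg.pPrimeCore 2 K) :=
    { carrier := {a | ∀ r ∈ R, a * r * a⁻¹ = r ∨ a * r * a⁻¹ = w * r}
      one_mem' := fun r _ => Or.inl (by simp)
      mul_mem' := fun {a b} ha hb r hr => by
        have e : a * b * r * (a * b)⁻¹ = a * (b * r * b⁻¹) * a⁻¹ := by group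
        have e2 : a * (w * r) * a⁻¹ = w * (a * r * a⁻¹) := by
          rw [← mul_assoc a w r, hwc a]; group
        rcases hb r hr with h | h <;> rcases ha r hr with h' | h' <;> rw [e, h]
        · exact Or.inl h'
        · exact Or.inr h'
        · rw [e2, h']; exact Or.inr rfl
        · rw [e2, h', ← mul_assoc, hw2, one_mul]; exact Or.inl rfl
      inv_mem' := fun {a} ha r hr => by
        have hr' : a⁻¹ * r * a⁻¹⁻¹ ∈ R := Normal.conj_mem inferInstance r hr _
        have e2 : a * (w * r) * a⁻¹ = w * (a * r * a⁻¹) := by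
          rw [← mul_assoc a w r, hwc a]; group
        rcases ha _ hr' with h | h
        · left
          rw [show a * (a⁻¹ * r * a⁻¹⁻¹) * a⁻¹ = r by group] at h
          exact h.symm
        · right
          rw [show a * (a⁻¹ * r * a⁻¹⁻¹) * a⁻¹ = r by group] at h
          calc a⁻¹ * r * a⁻¹⁻¹ = w * (w * (a⁻¹ * r * a⁻¹⁻¹)) := by rw [← mul_assoc, hw2, one_mul]
            _ = w * r := by rw [← h] }
  haveI hLn : L.Normal := ⟨fun a ha g r hr => by
    have hr' : g⁻¹ * r * g⁻¹⁻¹ ∈ R := Normal.conj_mem inferInstance r hr _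
    rcases ha _ hr' with h | h
    · left
      calc g * a * g⁻¹ * r * (g * a * g⁻¹)⁻¹ = g * (a * (g⁻¹ * r * g⁻¹⁻¹) * a⁻¹) * g⁻¹ := by group
        _ = r := by rw [h]; group
    · right
      calc g * a * g⁻¹ * r * (g * a * g⁻¹)⁻¹ = g * (a * (g⁻¹ * r * g⁻¹⁻¹) * a⁻¹) * g⁻¹ := by group
        _ = g * (w * (g⁻¹ * r * g⁻¹⁻¹)) * g⁻¹ := by rw [h]
        _ = (g * w) * g⁻¹ * r := by group
        _ = w * r := by rw [hwc g]; group⟩
  have hL : IsPGroup 2 ↥L := fun ⟨a, ha⟩ => by
    have h2 : a ^ 2 ∈ R := by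
      refine Components.isPConstrained_iff_charP.1 hK (mem_centralizer_iff.2 fun r hr => ?_)
      have : a ^ 2 * r * (a ^ 2)⁻¹ = r := by
        have e : a ^ 2 * r * (a ^ 2)⁻¹ = a * (a * r * a⁻¹) * a⁻¹ := by rw [pow_two]; group
        rcases ha r hr with h | h
        · rw [e, h, h]
        · rw [e, h, ← mul_assoc a w r, hwc a,
            show w * a * r * a⁻¹ = w * (a * r * a⁻¹) by group, h, ← mul_assoc, hw2, one_mul]
      exact ((mul_inv_eq_iff_eq_mul.1 this)).symm
    obtain ⟨n, hn⟩ := PBasic.pCore_isPGroup 2 _ ⟨a ^ 2, h2⟩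
    refine ⟨n + 1, Subtype.ext ?_⟩
    rw [SubmonoidClass.coe_pow, pow_succ', pow_mul]
    exact congrArg Subtype.val hn
  refine PBasic.le_pCore hLn hL (show π k ∈ L from fun r hr => ?_)
  obtain ⟨a, rfl⟩ := QuotientGroup.mk'_surjective _ r
  obtain ⟨q, hq, o, ho, rfl⟩ := mem_sup_of_normal_right.1 (PPrimePC.pPrimePCore_le_sup T hr)
  rw [map_mul, show π o = 1 from (QuotientGroup.eq_one_iff o).2 ho, mul_one, ← map_inv, ← map_mul,
    ← map_mul, hw, ← map_mul]
  rcases hkc q hq.1 with h | h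
  · exact Or.inl (by rw [h])
  · exact Or.inr (by rw [h])

/-- An odd subgroup of a centraliser, normalised by an involution of the second core whose fixed points
lie in the odd core, lies in the odd core. -/
theorem odd_le_core {b z : G} {X : Subgroup G} (hX : ¬ 2 ∣ Nat.card ↥X)
    (hXC : X ≤ centralizer ({b} : Set G)) (hz : z * z = 1) (hzX : ∀ x ∈ X, z * x * z⁻¹ ∈ X)
    (hzb : z ∈ coreTwo b) (hfix : X ⊓ centralizer ({z} : Set G) ≤ Cfsg.centralizerPPrimeCore 2 b) :
    X ≤ Cfsg.centralizerPPrimeCore 2 b := by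
  haveI : Fact (Nat.Prime 2) := ⟨Nat.prime_two⟩
  intro x hx
  set K := centralizer ({b} : Set G) with hK
  have hzK : z ∈ K := coreTwo_le b hzb
  set c := x * z * x⁻¹ * z⁻¹ with hc
  have hzi : z⁻¹ = z := inv_eq_of_mul_eq_one_left hz
  have hcX : c ∈ X := by
    rw [hc, show x * z * x⁻¹ * z⁻¹ = x * (z * x⁻¹ * z⁻¹) by group]
    exact mul_mem hx (hzX _ (inv_mem hx))
  have hcodd : Odd (orderOf c) := by
    rw [← Nat.not_even_iff_odd, even_iff_two_dvd]
    intro h
    exact hX (h.trans (by simpa using orderOf_dvd_natCard (⟨c, hcX⟩ : X)))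
  have hcN : (⟨c, hXC hcX⟩ : ↥K) ∈ Cfsg.pPrimeCore 2 ↥K := by
    haveI := FittingCores.pPrimeCore_normal (G := ↥K) 2
    rw [← QuotientGroup.eq_one_iff]
    have hzP := (mem_coreTwo hzK).1 hzb
    haveI := PPrimePC.pPrimePCore_normal (G := ↥K) (p := 2)
    have hcP : (⟨c, hXC hcX⟩ : ↥K) ∈ Cfsg.pPrimePCore 2 ↥K := by
      have : (⟨c, hXC hcX⟩ : ↥K) = ⟨x, hXC hx⟩ * ⟨z, hzK⟩ * ⟨x, hXC hx⟩⁻¹ * ⟨z, hzK⟩⁻¹ :=
        Subtype.ext rfl
      rw [this]
      exact mul_mem (Normal.conj_mem inferInstance _ hzP _) (inv_mem hzP)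
    refine PBasic.eq_one_of_isPGroup_of_coprime (p := 2) (PBasic.pCore_isPGroup 2 _) hcP ?_
    refine Nat.Coprime.coprime_dvd_left (orderOf_map_dvd (QuotientGroup.mk' (Cfsg.pPrimeCore 2 ↥K))
      (⟨c, hXC hcX⟩ : ↥K)) ?_
    rw [Subgroup.orderOf_mk, Nat.coprime_two_right]
    exact hcodd
  obtain ⟨m, hm⟩ := hcodd
  set d := c ^ (m + 1) with hd
  have hdd : d * d = c := by
    rw [hd, ← pow_add, show m + 1 + (m + 1) = 2 * m + 1 + 1 by omega, pow_succ, ← hm,
      pow_orderOf_eq_one, one_mul]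
  have hzc : z * c * z⁻¹ = c⁻¹ := by
    rw [hc, hzi]
    simp only [mul_inv_rev, inv_inv, hzi, mul_assoc, hz, mul_one]
  have hzd : z * d * z⁻¹ = d⁻¹ := by rw [hd, ← conj_pow, hzc, inv_pow]
  have hdN : (⟨d, hXC (pow_mem hcX _)⟩ : ↥K) ∈ Cfsg.pPrimeCore 2 ↥K := pow_mem hcN (m + 1)
  have hdθ : d ∈ Cfsg.centralizerPPrimeCore 2 b := ⟨_, hdN, rfl⟩
  have hzx : z * x * z⁻¹ = c⁻¹ * x := by
    rw [hc, hzi]
    simp only [mul_inv_rev, inv_inv, hzi, mul_assoc, inv_mul_cancel, mul_one]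
  have hy : z * (d⁻¹ * x) * z⁻¹ = d⁻¹ * x := by
    calc z * (d⁻¹ * x) * z⁻¹ = (z * d * z⁻¹)⁻¹ * (z * x * z⁻¹) := by group
      _ = d * ((d * d)⁻¹ * x) := by rw [hzd, hzx, inv_inv, hdd]
      _ = d⁻¹ * x := by group
  have hyX : d⁻¹ * x ∈ X := mul_mem (inv_mem (pow_mem hcX _)) hx
  have hyθ := hfix ⟨hyX, mem_centralizer_singleton_iff.2 (mul_inv_eq_iff_eq_mul.1 hy).symm⟩
  have := mul_mem hdθ hyθ
  rwa [mul_inv_cancel_left] at this

/-- A group with a cyclic subgroup of index two has 2-rank at most two. -/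
theorem prankLE_two_of_cyclic {T : Type*} [Group T] [Finite T] {x : T}
    (h : Nat.card T ≤ 2 * orderOf x) : Cfsg.PRankLE 2 2 T := by
  intro A hAc hA2
  have hI : Nat.card ↥(A ⊓ zpowers x) ≤ 2 := by
    haveI : IsCyclic ↥(A ⊓ zpowers x) :=
      isCyclic_of_injective (inclusion (inf_le_right : A ⊓ zpowers x ≤ zpowers x))
        (inclusion_injective _)
    obtain ⟨g, hg⟩ := IsCyclic.exists_generator (α := ↥(A ⊓ zpowers x))
    rw [← orderOf_eq_card_of_forall_mem_zpowers hg]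
    refine orderOf_le_of_pow_eq_one (by norm_num) (Subtype.ext ?_)
    exact hA2 _ g.2.1
  have h1 : Nat.card ↥(zpowers x) * Nat.card ↥A ≤ Nat.card T * Nat.card ↥(A ⊓ zpowers x) := by
    rw [← Nat.card_prod, ← Nat.card_prod]
    let f : ↥(zpowers x) × ↥A → T := fun p => (p.1 : T) * p.2
    classical
    let s : T → ↥(zpowers x) × ↥A := Function.invFun f
    refine Nat.card_le_card_of_injective (fun p : ↥(zpowers x) × ↥A => (f p,
      (⟨(p.2 : T) * ((s (f p)).2 : T)⁻¹, show _ ∈ A from mul_mem p.2.2 (inv_mem (s (f p)).2.2), ?_⟩ :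
        ↥(A ⊓ zpowers x)))) ?_
    · have he : f (s (f p)) = f p := Function.invFun_eq ⟨p, rfl⟩
      have : (p.2 : T) * ((s (f p)).2 : T)⁻¹ = (p.1 : T)⁻¹ * (s (f p)).1 := by
        rw [eq_comm, inv_mul_eq_iff_eq_mul, ← mul_assoc, eq_mul_inv_iff_mul_eq]
        exact he
      show (p.2 : T) * _ ∈ zpowers x
      rw [this]
      exact mul_mem (inv_mem p.1.2) (s (f p)).1.2
    · intro p q hpq
      obtain ⟨h1, h2⟩ := Prod.mk.injEq .. ▸ hpq
      have h3 : (p.2 : T) = q.2 := by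
        have := congrArg Subtype.val h2
        simp only [h1] at this
        exact mul_right_cancel this
      refine Prod.ext (Subtype.ext ?_) (Subtype.ext h3)
      have h4 : (p.1 : T) * p.2 = (q.1 : T) * q.2 := h1
      rw [h3] at h4
      exact mul_right_cancel h4
  rw [Nat.card_zpowers] at h1
  have := orderOf_pos x
  have : Nat.card T * Nat.card ↥(A ⊓ zpowers x) ≤ 2 * orderOf x * 2 := Nat.mul_le_mul h hI
  have : orderOf x * Nat.card ↥A ≤ orderOf x * 4 := by omega
  exact (Nat.le_of_mul_le_mul_left this (orderOf_pos x)).trans (by norm_num)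

theorem prankLE_two_of_maxClass {T : Type u} [Group T] [Finite T] (h : RankTwoSylow.MaxClass T) :
    Cfsg.PRankLE 2 2 T := by
  rcases h with ⟨m, hm, ⟨e⟩⟩ | ⟨n, hn, hcard, x, y, hx, -, -⟩
  · haveI : NeZero m := ⟨by omega⟩
    refine prankLE_two_of_cyclic (x := e.symm (DihedralGroup.r 1)) ?_
    rw [MulEquiv.orderOf_eq, DihedralGroup.orderOf_r_one, Nat.card_congr e.toEquiv,
      DihedralGroup.nat_card]
  · refine prankLE_two_of_cyclic (x := x) ?_
    rw [hcard, hx, pow_succ']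

end Cfsg.Agent.Dichotomy
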