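import Cfsg.Agent.Lib.Dichotomy.Setup

/-!
The centraliser of the central involution normalises the closure.
-/

set_option autoImplicit false
set_option linter.style.haveILetI false

universe u

namespace Cfsg.Agent.Dichotomy

open Subgroup Cfsg.Agent.Signalizer Cfsg.Agent.Signalizer.SFT

variable {G : Type u} [Group G] [Finite G]

/-- All involution centralisers are constrained. -/
def AllConstrained (G : Type u) [Group G] : Prop :=
  ∀ t : G, orderOf t = 2 → Cfsg.IsPConstrained 2 ↥(centralizer ({t} : Set G))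

namespace Dat

variable {S : Sylow 2 G} {z f : G} (D : Dat S z f)
include D

local notation "θ" => oddC

theorem zord : orderOf z = 2 := orderOf_eq_prime (by rw [pow_two]; exact D.z2) D.z1

theorem ford : orderOf f = 2 := orderOf_eq_prime (by rw [pow_two]; exact D.f2) D.f1

theorem sylow_le_centralizer : (S : Subgroup G) ≤ centralizer ({z} : Set G) :=
  fun s hs => mem_centralizer_singleton_iff.2 (D.cen s hs)

theorem z_mem_coreTwo (hcon : AllConstrained G) : z ∈ coreTwo z := by
  refine (mem_coreTwo (D.sylow_le_centralizer D.zS)).2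
    (mem_of_central (hcon z D.zord) (S.subtype D.sylow_le_centralizer) fun t _ => Subtype.ext ?_)
  exact mem_centralizer_singleton_iff.1 t.2

theorem f_mem_coreTwo (hcon : AllConstrained G) : f ∈ coreTwo z := by
  refine (mem_coreTwo (D.sylow_le_centralizer D.fS)).2
    (mem_of_chain (hcon z D.zord) (S.subtype D.sylow_le_centralizer)
      (z := ⟨z, D.sylow_le_centralizer D.zS⟩) (fun a => Subtype.ext (mem_centralizer_singleton_iff.1 a.2))
      (Subtype.ext D.z2) (Subtype.ext D.f2) fun t ht => ?_)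
  have htS : (t : G) ∈ (S : Subgroup G) := ht
  have hzi : z⁻¹ = z := inv_eq_of_mul_eq_one_left D.z2
  rcases D.fconj t htS with h | h
  · refine Or.inl (Subtype.ext ?_)
    show f * (t : G) * f⁻¹ = t
    rw [mul_inv_eq_iff_eq_mul]
    exact (mul_inv_eq_iff_eq_mul.1 h).symm
  · refine Or.inr (Subtype.ext ?_)
    show f * (t : G) * f⁻¹ = z * t
    have h' : (t : G) * f = z * (f * t) := by rw [mul_inv_eq_iff_eq_mul.1 h, mul_assoc]
    have h'' : f * (t : G) = z * (t * f) := by rw [h', ← mul_assoc, D.z2, one_mul]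
    rw [h'']; group

/-- The four group lies in the second core of the centraliser of `z`. -/
theorem four_le_coreTwo (hcon : AllConstrained G) : zpowers z ⊔ zpowers f ≤ coreTwo z :=
  sup_le (zpowers_le.2 (D.z_mem_coreTwo hcon)) (zpowers_le.2 (D.f_mem_coreTwo hcon))

/-- The central involution lies in the second core of the centraliser of `f`. -/
theorem z_mem_coreTwo_f (hcon : AllConstrained G) : z ∈ coreTwo f := by
  haveI : Fact (Nat.Prime 2) := ⟨Nat.prime_two⟩
  have hzK : z ∈ centralizer ({f} : Set G) := mem_centralizer_singleton_iff.2 D.comm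
  set K := centralizer ({f} : Set G) with hK
  rcases D.alt with halt | halt
  · have hSK : (S : Subgroup G) ≤ K := fun s hs => mem_centralizer_singleton_iff.2 (halt s hs)
    exact (mem_coreTwo hzK).2 (mem_of_central (hcon f D.ford) (S.subtype hSK)
      fun t ht => Subtype.ext (D.cen t ht))
  set T₀ := (S : Subgroup G) ⊓ K with hT₀
  have hT₀p : IsPGroup 2 ↥T₀ := S.isPGroup'.to_le inf_le_left
  obtain ⟨T, hT⟩ := (hT₀p.comap_subtype (K := K)).exists_le_sylow
  set T₁ := (T : Subgroup ↥K).map K.subtype with hT₁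
  have hT₁p : IsPGroup 2 ↥T₁ := T.2.map K.subtype
  have h01 : T₀ ≤ T₁ := fun x hx => ⟨⟨x, hx.2⟩, hT hx, rfl⟩
  by_cases hcen : ∀ t ∈ T₁, t * z = z * t
  · exact (mem_coreTwo hzK).2 (mem_of_central (hcon f D.ford) T
      fun t ht => Subtype.ext (hcen t ⟨t, ht, rfl⟩))
  push Not at hcen
  obtain ⟨t₁, ht₁, ht₁z⟩ := hcen
  have ht₁0 : t₁ ∉ T₀ := fun h => ht₁z (D.cen t₁ h.1)
  have hlt : Nat.card T₀ < Nat.card T₁ := by
    refine lt_of_le_of_ne (card_le_of_le h01) fun h => ht₁0 ?_
    rw [eq_of_le_of_card_ge h01 h.ge]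
    exact ht₁
  have hhalf : Nat.card ↥(S : Subgroup G) ≤ 2 * Nat.card T₀ := D.half (B := (S : Subgroup G)) le_rfl
  obtain ⟨g, -, hg⟩ := SolvCores.exists_conj_le (S := S) (H := ⊤) le_top hT₁p le_top
  have hT₁S : Nat.card T₁ ≤ Nat.card ↥(S : Subgroup G) := by
    rw [← card_map_of_injective (K := T₁) (f := (MulAut.conj g).toMonoidHom) (MulAut.conj g).injective]
    exact card_le_of_le hg
  obtain ⟨a, ha⟩ := hT₀p.exists_card_eq
  obtain ⟨b, hb⟩ := hT₁p.exists_card_eq
  obtain ⟨c, hc⟩ := S.isPGroup'.exists_card_eq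
  have hbc : b = c := by
    rw [ha, hb] at hlt
    rw [hb, hc] at hT₁S
    rw [ha, hc, ← pow_succ'] at hhalf
    have h1 := (Nat.pow_lt_pow_iff_right (by norm_num : 1 < 2)).1 hlt
    have h2 := (Nat.pow_le_pow_iff_right (by norm_num : 1 < 2)).1 hT₁S
    have h3 := (Nat.pow_le_pow_iff_right (by norm_num : 1 < 2)).1 hhalf
    omega
  have hT₁card : Nat.card T₁ = Nat.card ↥(S : Subgroup G) := by rw [hb, hc, hbc]
  -- `T₀` is normal in both
  have hnorm : ∀ P : Subgroup G, T₀ ≤ P → Nat.card P ≤ 2 * Nat.card T₀ → P ≤ normalizer (T₀ : Set G) := by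
    intro P hle hP
    have hi : (T₀.subgroupOf P).index ≤ 2 := by
      have := (T₀.subgroupOf P).card_mul_index
      rw [Nat.card_congr (subgroupOfEquivOfLe hle).toEquiv] at this
      rw [← this, mul_comm (Nat.card T₀), mul_comm 2] at hP
      exact Nat.le_of_mul_le_mul_right (by rw [mul_comm]; linarith) (Nat.card_pos (α := T₀))
    have hn : (T₀.subgroupOf P).Normal := by
      have h0 : (T₀.subgroupOf P).index ≠ 0 := Subgroup.index_ne_zero_of_finite
      rcases (show (T₀.subgroupOf P).index = 1 ∨ (T₀.subgroupOf P).index = 2 by omega) with h | h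
      · rw [index_eq_one.1 h]; infer_instance
      · exact normal_of_index_eq_two h
    exact (normal_subgroupOf_iff_le_normalizer hle).1 hn
  have hSN := hnorm (S : Subgroup G) inf_le_left hhalf
  obtain ⟨n, hnN, hn⟩ := SolvCores.exists_conj_le hSN hT₁p (hnorm T₁ h01 (hT₁card.le.trans hhalf))
  have hneq : T₁.map (MulAut.conj n).toMonoidHom = (S : Subgroup G) :=
    eq_of_le_of_card_ge hn (by rw [card_map_of_injective (MulAut.conj n).injective, hT₁card])
  have hfT₀ : f ∈ T₀ := ⟨D.fS, mem_centralizer_singleton_iff.2 rfl⟩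
  have hnf : n * f * n⁻¹ = z := by
    refine halt _ ((mem_normalizer_iff.1 hnN f).1 hfT₀).1 ?_ (fun h => D.f1 (conj_eq_one_iff.1 h)) ?_
    · calc n * f * n⁻¹ * (n * f * n⁻¹) = n * (f * f) * n⁻¹ := by group
        _ = 1 := by rw [D.f2]; group
    · intro s hs
      rw [← hneq] at hs
      obtain ⟨y, hy, rfl⟩ := hs
      exact mem_centralizer_singleton_iff.1 (conj_mem_centralizer (map_subtype_le _ hy))
  -- the image of `z` lies in the four group
  set w := n * z * n⁻¹ with hw
  have hw2 : w * w = 1 := by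
    calc w * w = n * (z * z) * n⁻¹ := by rw [hw]; group
      _ = 1 := by rw [D.z2]; group
  have hwT : w ∈ T₀ := (mem_normalizer_iff.1 hnN z).1 ⟨D.zS, hzK⟩
  have hwc : ∀ x ∈ T₀, x * w = w * x := by
    intro x hx
    have hx' := (mem_normalizer_iff.1 (inv_mem hnN) x).1 hx
    rw [inv_inv] at hx'
    calc x * w = n * (n⁻¹ * x * n * z) * n⁻¹ := by rw [hw]; group
      _ = n * (z * (n⁻¹ * x * n)) * n⁻¹ := by rw [D.cen _ hx'.1]
      _ = w * x := by rw [hw]; group
  obtain ⟨s₀, hs₀, hs₀f⟩ : ∃ s ∈ (S : Subgroup G), s * f * s⁻¹ = z * f := by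
    by_contra! hall
    refine D.fz (halt f D.fS D.f2 D.f1 fun s hs => ?_)
    exact mul_inv_eq_iff_eq_mul.1 ((D.fconj s hs).resolve_right (hall s hs))
  have hsplit : ∀ y ∈ T₀.carrier, ∀ v : G, (∀ x ∈ T₀, x * v = v * x) → y * v = v * y :=
    fun y hy v hv => hv y hy
  have hgen : ∀ v : G, (∀ x ∈ T₀, x * v = v * x) → s₀ * v = v * s₀ →
      ∀ s ∈ (S : Subgroup G), s * v = v * s := by
    intro v hv hsv s hs
    rcases D.fconj s hs with h | h
    · exact hv s ⟨hs, mem_centralizer_singleton_iff.2 (mul_inv_eq_iff_eq_mul.1 h)⟩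
    · have hin : s₀⁻¹ * s ∈ T₀ := ⟨(show s₀⁻¹ * s ∈ (S : Subgroup G) from mul_mem (inv_mem hs₀) hs), mem_centralizer_singleton_iff.2 (by
        rw [mul_assoc, mul_inv_eq_iff_eq_mul.1 (h.trans hs₀f.symm)]; group)⟩
      calc s * v = s₀ * ((s₀⁻¹ * s) * v) := by group
        _ = s₀ * v * (s₀⁻¹ * s) := by rw [hv _ hin]; group
        _ = v * s := by rw [hsv]; group
  set w' := s₀ * w * s₀⁻¹ with hw'
  have hs₀N := hSN hs₀
  have hw'T : w' ∈ T₀ := (mem_normalizer_iff.1 hs₀N w).1 hwT
  have hw'c : ∀ x ∈ T₀, x * w' = w' * x := by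
    intro x hx
    have hx' := (mem_normalizer_iff.1 (inv_mem hs₀N) x).1 hx
    rw [inv_inv] at hx'
    calc x * w' = s₀ * (s₀⁻¹ * x * s₀ * w) * s₀⁻¹ := by rw [hw']; group
      _ = s₀ * (w * (s₀⁻¹ * x * s₀)) * s₀⁻¹ := by rw [hwc _ hx']
      _ = w' * x := by rw [hw']; group
  have hw'2 : w' * w' = 1 := by
    calc w' * w' = s₀ * (w * w) * s₀⁻¹ := by rw [hw']; group
      _ = 1 := by rw [hw2]; group
  have hs₀sq : s₀ * s₀ ∈ T₀ := ⟨mul_mem hs₀ hs₀, mem_centralizer_singleton_iff.2 (D.sq_comm hs₀)⟩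
  have hswap : s₀ * w' * s₀⁻¹ = w := by
    rw [hw']
    calc s₀ * (s₀ * w * s₀⁻¹) * s₀⁻¹ = (s₀ * s₀ * w) * (s₀ * s₀)⁻¹ := by group
      _ = w := by rw [hwc _ hs₀sq]; group
  have hww' : w * w' = w' * w := hw'c w hwT
  have hv : ∀ s ∈ (S : Subgroup G), s * (w * w') = w * w' * s := by
    refine hgen _ (fun x hx => ((show Commute x w from hwc x hx).mul_right (hw'c x hx)).eq) ?_
    calc s₀ * (w * w') = (s₀ * w * s₀⁻¹) * (s₀ * w' * s₀⁻¹) * s₀ := by group
      _ = w' * w * s₀ := by rw [hswap]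
      _ = w * w' * s₀ := by rw [hww']
  have hv2 : w * w' * (w * w') = 1 := by
    calc w * w' * (w * w') = w * (w' * w) * w' := by group
      _ = (w * w) * (w' * w') := by rw [← hww']; group
      _ = 1 := by rw [hw2, hw'2, one_mul]
  have hmem : w = z ∨ w = f ∨ w = z * f := by
    have hw1 : w ≠ 1 := fun h => D.z1 (conj_eq_one_iff.1 h)
    by_cases hv1 : w * w' = 1
    · left
      have hfix : w' = w := by
        rw [← mul_left_cancel_iff (a := w), hv1, hw2]
      refine halt w hwT.1 hw2 hw1 (hgen w hwc ?_)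
      exact mul_inv_eq_iff_eq_mul.1 (hw'.symm.trans hfix)
    have hvz : w * w' = z := halt _ (mul_mem hwT.1 hw'T.1) hv2 hv1 hv
    have hw'z : w' = z * w := by
      rw [← mul_left_cancel_iff (a := w), hvz, ← mul_assoc, D.cen w hwT.1, mul_assoc, hw2, mul_one]
    have hwf2 : w * f * (w * f) = 1 := by
      calc w * f * (w * f) = w * (f * w) * f := by group
        _ = (w * w) * (f * f) := by rw [hwc f hfT₀]; group
        _ = 1 := by rw [hw2, D.f2, one_mul]
    by_cases hwf1 : w * f = 1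
    · exact Or.inr (Or.inl (by
        rw [eq_inv_of_mul_eq_one_left hwf1, inv_eq_of_mul_eq_one_left D.f2]))
    have hwfz : w * f = z := by
      refine halt _ (mul_mem hwT.1 D.fS) hwf2 hwf1 (hgen _ (fun x hx => ?_) ?_)
      · exact ((show Commute x w from hwc x hx).mul_right (mem_centralizer_singleton_iff.1 hx.2)).eq
      · calc s₀ * (w * f) = (s₀ * w * s₀⁻¹) * (s₀ * f * s₀⁻¹) * s₀ := by group
          _ = z * w * (z * f) * s₀ := by rw [← hw', hw'z, hs₀f]
          _ = z * (w * z) * f * s₀ := by group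
          _ = z * z * w * f * s₀ := by rw [D.cen w hwT.1]; group
          _ = w * f * s₀ := by rw [D.z2, one_mul]
    refine Or.inr (Or.inr ?_)
    rw [← hwfz, mul_assoc, D.f2, mul_one]
  have hcore : w ∈ coreTwo z := by
    rcases hmem with h | h | h <;> rw [h]
    · exact D.z_mem_coreTwo hcon
    · exact D.f_mem_coreTwo hcon
    · exact D.swap.f_mem_coreTwo hcon
  have h := coreTwo_conj n⁻¹ hcore
  rw [show n⁻¹ * w * n⁻¹⁻¹ = z by rw [hw]; group, show n⁻¹ * z * n⁻¹⁻¹ = f by rw [← hnf]; group] at h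
  exact h

variable (Θ : Equivariant 2 (oddC : G → Subgroup G))
include Θ

local notation "W₀" => thetaClosure oddC (zpowers z ⊔ zpowers f)

set_option maxHeartbeats 800000 in
/-- The centraliser of `z` normalises the closure. -/
theorem centralizer_le (hcon : AllConstrained G) :
    centralizer ({z} : Set G) ≤ normalizer (W₀ : Set G) := by
  haveI : Fact (Nat.Prime 2) := ⟨Nat.prime_two⟩
  have hSH := D.sylow_le_normalizer Θ
  obtain ⟨B, hB, hB8, hBS, hEB⟩ := D.exists_eight
  have hBH := hBS.trans hSH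
  have hzB : z ∈ B := hEB (mem_sup_left (mem_zpowers z))
  have hθW : ∀ y ∈ zpowers z ⊔ zpowers f, y ≠ 1 → oddC y ≤ W₀ := fun y hy hy1 =>
    (D.core_le Θ hB hB8 hBH (hEB hy) hy1).ge.trans inf_le_left
  set K := centralizer ({z} : Set G) with hK
  set T := S.subtype D.sylow_le_centralizer with hT
  have hsup := congrArg (Subgroup.map K.subtype) (PPrimePC.normalizer_sup_eq_top T)
  rw [Subgroup.map_sup, ← MonoidHom.range_eq_map, range_subtype] at hsup
  refine hsup.ge.trans (sup_le ?_
    ((hθW z (mem_sup_left (mem_zpowers z)) D.z1).trans le_normalizer))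
  rintro _ ⟨g, hg, rfl⟩
  set a : G := K.subtype g with hadef
  have haz : a * z = z * a := mem_centralizer_singleton_iff.1 g.2
  have hazz : a * z * a⁻¹ = z := by rw [haz, mul_inv_cancel_right]
  set E := (zpowers z ⊔ zpowers f).map (MulAut.conj a).toMonoidHom with hE
  have hES : E ≤ (S : Subgroup G) := by
    rintro _ ⟨y, hy, rfl⟩
    have hyK : y ∈ K := D.sylow_le_centralizer (D.four_le hy)
    have hyQ : (⟨y, hyK⟩ : ↥K) ∈ PPrimePC.coreH 2 (T : Subgroup ↥K) :=
      ⟨D.four_le hy, (mem_coreTwo hyK).1 (D.four_le_coreTwo hcon hy)⟩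
    exact ((mem_normalizer_iff.1 hg _).1 hyQ).1
  have hBa := SolvCores.ea_map (MulAut.conj a).toMonoidHom hB
  have hBa8 : 8 ≤ Nat.card ↥(B.map (MulAut.conj a).toMonoidHom) := by
    rwa [card_map_of_injective (MulAut.conj a).injective]
  have hle : W₀ ≤ (W₀).map (MulAut.conj a).toMonoidHom := by
    refine Signalizer.le_of_centralizer_le (p := 2) (B := E) (SolvCores.ea_map _ D.four_ea)
      (by rw [hE, card_map_of_injective (MulAut.conj a).injective]; exact D.four_card)
      (hES.trans hSH) (D.closure_odd Θ) ?_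
    rintro _ ⟨y, hy, rfl⟩ hy1
    have hy1' : y ≠ 1 := fun h => hy1 (by rw [h, map_one])
    have hyd := deep_of_mem hB hB8 (hEB hy) hy1'
    show W₀ ⊓ centralizer ({a * y * a⁻¹} : Set G) ≤ _
    refine le_trans ?_ (map_mono (hθW y hy hy1'))
    rw [← Θ.equiv y a hyd]
    have main : ∀ x : G, x ∈ zpowers z ⊔ zpowers f → x ≠ 1 → z ∈ coreTwo x →
        W₀ ⊓ centralizer ({a * x * a⁻¹} : Set G) ≤ oddC (a * x * a⁻¹) := by
      intro x hx hx1 hcore
      have hxd := deep_of_mem hBa hBa8 (a := a * x * a⁻¹) ⟨x, hEB hx, rfl⟩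
        (fun h => hx1 (conj_eq_one_iff.1 h))
      have hcomm : z * (a * x * a⁻¹) = a * x * a⁻¹ * z := by
        have hzx : z * x = x * z := ea_comm hB hzB (hEB hx)
        calc z * (a * x * a⁻¹) = (a * z * a⁻¹) * (a * x * a⁻¹) := by rw [hazz]
          _ = a * (z * x) * a⁻¹ := by group
          _ = a * x * a⁻¹ * (a * z * a⁻¹) := by rw [hzx]; group
          _ = _ := by rw [hazz]
      refine odd_le_core (z := z) ?_ inf_le_right D.z2 ?_ ?_ ?_
      · exact fun h => D.closure_odd Θ (h.trans (card_dvd_of_le inf_le_left))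
      · rintro v ⟨hv, hvc⟩
        refine ⟨(mem_normalizer_iff.1 (hSH D.zS) v).1 hv, mem_centralizer_singleton_iff.2 ?_⟩
        exact (((show Commute z (a * x * a⁻¹) from hcomm).mul_left
          (mem_centralizer_singleton_iff.1 hvc)).mul_left
            (show Commute z (a * x * a⁻¹) from hcomm).inv_left).eq
      · have h := coreTwo_conj a hcore
        rwa [hazz] at h
      · intro v hv
        exact Θ.balance z _ (deep_of_mem hB hB8 hzB D.z1) hxd hcomm
          ⟨(D.core_le Θ hB hB8 hBH hzB D.z1).le ⟨hv.1.1, hv.2⟩, hv.1.2⟩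
    rcases D.four_mem hy with rfl | rfl | rfl | rfl
    · exact absurd rfl hy1'
    · exact main _ hy hy1' (D.z_mem_coreTwo hcon)
    · exact main _ hy hy1' (D.z_mem_coreTwo_f hcon)
    · exact main _ hy hy1' (D.swap.z_mem_coreTwo_f hcon)
  show a ∈ normalizer (W₀ : Set G)
  rw [mem_normalizer_iff_map_conj_eq]
  exact (eq_of_le_of_card_ge hle (card_map_of_injective (MulAut.conj a).injective).le).symm

end Dat

end Cfsg.Agent.Dichotomy
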