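import Cfsg.Agent.Lib.Dichotomy.Central

/-!
The central involution has no conjugate in the normaliser of the closure by an outside element.
-/

set_option autoImplicit false
set_option linter.style.haveILetI false

universe u

namespace Cfsg.Agent.Dichotomy

open Subgroup Cfsg.Agent.Signalizer Cfsg.Agent.Signalizer.SFT

variable {G : Type u} [Group G] [Finite G]

/-- No rank three subgroup centralises both elements. -/
def NoEight (z w : G) : Prop :=
  ∀ B : Subgroup G, Cfsg.IsElementaryAbelian 2 B → 8 ≤ Nat.card B →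
    B ≤ centralizer ({z} : Set G) ⊓ centralizer ({w} : Set G) → False

theorem NoEight.conj {z w : G} (h : NoEight z w) (m : G) : NoEight (m * z * m⁻¹) (m * w * m⁻¹) := by
  intro B hB hB8 hBC
  refine h (B.map (MulAut.conj m⁻¹).toMonoidHom) (SolvCores.ea_map _ hB)
    (by rwa [card_map_of_injective (MulAut.conj m⁻¹).injective]) ?_
  rintro _ ⟨b, hb, rfl⟩
  have h1 := conj_mem_centralizer (g := m⁻¹) (hBC hb).1
  have h2 := conj_mem_centralizer (g := m⁻¹) (hBC hb).2
  rw [show m⁻¹ * (m * z * m⁻¹) * m⁻¹⁻¹ = z by group] at h1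
  rw [show m⁻¹ * (m * w * m⁻¹) * m⁻¹⁻¹ = w by group] at h2
  exact ⟨h1, h2⟩

theorem NoEight.symm {z w : G} (h : NoEight z w) : NoEight w z :=
  fun B hB hB8 hBC => h B hB hB8 (hBC.trans (le_of_eq (inf_comm ..)))

theorem NoEight.mul {z w : G} (hz : z * z = 1) (h : NoEight z w) : NoEight z (z * w) := by
  refine fun B hB hB8 hBC => h B hB hB8 fun b hb => ⟨(hBC hb).1, ?_⟩
  have h1 : Commute b z := mem_centralizer_singleton_iff.1 (hBC hb).1
  have h2 : Commute b (z * w) := mem_centralizer_singleton_iff.1 (hBC hb).2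
  have h3 := h1.mul_right h2
  rw [← mul_assoc, hz, one_mul] at h3
  exact mem_centralizer_singleton_iff.2 h3.eq

namespace Dat

variable {S : Sylow 2 G} {z f : G} (D : Dat S z f)
include D

/-- Such an element of `S` is not a square in its centraliser. -/
theorem not_sq {w : G} (hw1 : w ≠ 1) (hwz : w ≠ z) (hno : NoEight z w) {y : G}
    (hy : y ∈ (S : Subgroup G)) (hy2 : y * y = w) (hww : w * w = 1) : False := by
  have hwf : w * f = f * w := hy2 ▸ D.sq_comm hy
  have hwS : w ∈ (S : Subgroup G) := hy2 ▸ mul_mem hy hy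
  obtain ⟨B, hB, hB8, hBS, hEB⟩ := D.exists_eight
  by_cases hwE : w ∈ zpowers z ⊔ zpowers f
  · exact hno B hB hB8 fun b hb => ⟨mem_centralizer_singleton_iff.2 (D.cen b (hBS hb)),
      mem_centralizer_singleton_iff.2 (ea_comm hB hb (hEB hwE))⟩
  · have hc : ∀ b ∈ zpowers z ⊔ zpowers f, b * w = w * b := by
      intro b hb
      rcases D.four_mem hb with rfl | rfl | rfl | rfl
      · simp
      · exact (D.cen w hwS).symm
      · exact hwf.symm
      · rw [mul_assoc, ← hwf, ← mul_assoc, ← D.cen w hwS, mul_assoc]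
    have hE := ea_adjoin D.four_ea hww hc
    refine hno _ hE ?_ ?_
    · exact SolvCores.card_ge_of_lt (k := 2) hE (lt_of_le_of_ne le_sup_left fun h =>
        hwE (h.symm ▸ mem_sup_right (mem_zpowers w))) D.four_card
    · intro b hb
      refine ⟨ea_le_centralizer_singleton hE (mem_sup_left (mem_sup_left (mem_zpowers z))) hb,
        ea_le_centralizer_singleton hE (mem_sup_right (mem_zpowers w)) hb⟩

variable (Θ : Equivariant 2 (oddC : G → Subgroup G))
include Θ

local notation "H₀" => normalizer ((thetaClosure oddC (zpowers z ⊔ zpowers f) : Subgroup G) : Set G)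

/-- Fusion of the central involution. -/
theorem fusion (hcon : AllConstrained G) {g : G} (hg : g * z * g⁻¹ ∈ H₀) : g ∈ H₀ := by
  haveI : Fact (Nat.Prime 2) := ⟨Nat.prime_two⟩
  have hCz := D.centralizer_le Θ hcon
  have hSH := D.sylow_le_normalizer Θ
  by_contra hgH
  -- move the conjugate into `S`
  obtain ⟨h, hh, hhu⟩ := SolvCores.exists_conj_le hSH (P := zpowers (g * z * g⁻¹))
    (IsPGroup.of_card (n := 1) (p := 2) (by rw [Nat.card_zpowers, Invol.order_conj, D.zord, pow_one]))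
    (zpowers_le.2 hg)
  have hg₁H : h * g ∉ H₀ := fun h' => hgH (by simpa using mul_mem (inv_mem hh) h')
  have hu₁ : h * g * z * (h * g)⁻¹ ∈ (S : Subgroup G) := by
    rw [show h * g * z * (h * g)⁻¹ = h * (g * z * g⁻¹) * h⁻¹ by group]
    exact hhu ⟨_, mem_zpowers _, rfl⟩
  clear hg hgH hhu hh
  generalize h * g = g₁ at hg₁H hu₁
  clear g h
  -- a Sylow subgroup of the centraliser of both, inside `S`
  set u₁ := g₁ * z * g₁⁻¹ with hu₁def
  have hu₁c : u₁ * z = z * u₁ := D.cen u₁ hu₁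
  set L := centralizer ({z} : Set G) ⊓ centralizer ({u₁} : Set G) with hL
  have hu₁2 : u₁ * u₁ = 1 := by
    calc u₁ * u₁ = g₁ * (z * z) * g₁⁻¹ := by rw [hu₁def]; group
      _ = 1 := by rw [D.z2]; group
  have hE := ea_four D.z2 hu₁2 hu₁c.symm
  have hEL : zpowers z ⊔ zpowers u₁ ≤ L := fun x hx =>
    ⟨ea_le_centralizer_singleton hE (mem_sup_left (mem_zpowers z)) hx,
      ea_le_centralizer_singleton hE (mem_sup_right (mem_zpowers u₁)) hx⟩
  obtain ⟨P₀, hP₀⟩ := ((ea_isPGroup hE).comap_subtype (K := L)).exists_le_sylow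
  set P₁ := (P₀ : Subgroup ↥L).map L.subtype with hP₁
  obtain ⟨h, hh, hhP⟩ := SolvCores.exists_conj_le (S := S) D.sylow_le_centralizer
    (P₀.2.map L.subtype) ((map_subtype_le _).trans inf_le_left)
  have hzh : h * z * h⁻¹ = z := by rw [mem_centralizer_singleton_iff.1 hh, mul_inv_cancel_right]
  set g := h * g₁ with hgdef
  have hgH : g ∉ H₀ := fun h' => hg₁H (by
    have := mul_mem (inv_mem (hCz hh)) h'
    simpa [hgdef] using this)
  set u := g * z * g⁻¹ with hudef
  have hu : u = h * u₁ * h⁻¹ := by rw [hudef, hu₁def, hgdef]; group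
  have hu₁P : u₁ ∈ P₁ := ⟨⟨u₁, hEL (mem_sup_right (mem_zpowers u₁))⟩,
    hP₀ (mem_sup_right (mem_zpowers u₁)), rfl⟩
  have huS : u ∈ (S : Subgroup G) := hu ▸ hhP ⟨u₁, hu₁P, rfl⟩
  have hu2 : u * u = 1 := by
    calc u * u = g * (z * z) * g⁻¹ := by rw [hudef]; group
      _ = 1 := by rw [D.z2]; group
  have hu1 : u ≠ 1 := fun h' => D.z1 (conj_eq_one_iff.1 h')
  have huz : u ≠ z := fun h' => hgH (hCz (mem_centralizer_singleton_iff.2 (by
    rw [hudef] at h'
    exact mul_inv_eq_iff_eq_mul.1 h')))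
  have hno : NoEight z u := by
    intro B hB hB8 hBC
    refine hgH (inv_inv g ▸ inv_mem (D.key Θ hB hB8 (fun b hb => hCz (hBC hb).1) (g := g⁻¹) fun b hb => hCz ?_))
    have := conj_mem_centralizer (g := g⁻¹) (hBC hb).2
    rwa [show g⁻¹ * u * g⁻¹⁻¹ = z by rw [hudef]; group] at this
  set P := P₁.map (MulAut.conj h).toMonoidHom with hP
  have hPS : P ≤ (S : Subgroup G) := hhP
  have hPC : P ≤ centralizer ({u} : Set G) := by
    rintro _ ⟨y, hy, rfl⟩
    rw [hu]
    exact conj_mem_centralizer ((map_subtype_le _) hy).2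
  -- squares
  obtain ⟨k, hk, hkP⟩ := SolvCores.exists_conj_le (S := S) D.sylow_le_centralizer
    (P := P.map (MulAut.conj g⁻¹).toMonoidHom) (((P₀.2.map L.subtype).map _).map _) (by
      rintro _ ⟨y, hy, rfl⟩
      have := conj_mem_centralizer (g := g⁻¹) (hPC hy)
      rwa [show g⁻¹ * u * g⁻¹⁻¹ = z by rw [hudef]; group] at this)
  set m := k * g⁻¹ with hm
  have hmu : m * u * m⁻¹ = z := by
    calc m * u * m⁻¹ = k * z * k⁻¹ := by rw [hm, hudef]; group
      _ = z := by rw [mem_centralizer_singleton_iff.1 hk, mul_inv_cancel_right]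
  have hnow : NoEight z (m * z * m⁻¹) := by
    have := (hno.conj m).symm
    rwa [hmu] at this
  have hsq : ∀ y ∈ P, y * y = z ∨ y * y = u ∨ y * y = z * u → False := by
    intro y hy h'
    have hyS := hPS hy
    rcases h' with h' | h' | h'
    · have hmy : m * y * m⁻¹ ∈ (S : Subgroup G) := by
        rw [show m * y * m⁻¹ = k * (g⁻¹ * y * g⁻¹⁻¹) * k⁻¹ by rw [hm]; group]
        exact hkP ⟨_, ⟨y, hy, rfl⟩, rfl⟩
      refine D.not_sq (w := m * z * m⁻¹) (fun h1 => D.z1 (conj_eq_one_iff.1 h1)) ?_ hnow hmy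
        (by rw [← h']; group) (by
          calc m * z * m⁻¹ * (m * z * m⁻¹) = m * (z * z) * m⁻¹ := by group
            _ = 1 := by rw [D.z2]; group)
      intro h1
      exact huz (mul_left_cancel (mul_right_cancel (hmu.trans h1.symm)))
    · exact D.not_sq hu1 huz hno hyS h' hu2
    · refine D.not_sq (w := z * u) (fun h1 => huz ?_) (fun h1 => hu1 ?_) (hno.mul D.z2) hyS h' ?_
      · exact (mul_left_cancel (h1.trans D.z2.symm))
      · exact mul_left_cancel (a := z) (by rw [h1, mul_one])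
      · calc z * u * (z * u) = z * (u * z) * u := by group
          _ = (z * z) * (u * u) := by rw [D.cen u huS]; group
          _ = 1 := by rw [D.z2, hu2, one_mul]
  -- involutions
  have hinv : ∀ y ∈ P, y * y = 1 → y = 1 ∨ y = z ∨ y = u ∨ y = z * u := by
    intro y hy hy2
    by_contra hnot
    have hEu := ea_four D.z2 hu2 (D.cen u huS).symm
    have hc : ∀ b ∈ zpowers z ⊔ zpowers u, b * y = y * b := by
      intro b hb
      have hle : zpowers z ⊔ zpowers u ≤ centralizer ({y} : Set G) :=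
        sup_le (zpowers_le.2 (mem_centralizer_singleton_iff.2 (D.cen y (hPS hy)).symm))
          (zpowers_le.2 (mem_centralizer_singleton_iff.2 (mem_centralizer_singleton_iff.1 (hPC hy)).symm))
      exact mem_centralizer_singleton_iff.1 (hle hb)
    have hE3 := ea_adjoin hEu hy2 hc
    refine hno _ hE3 ?_ fun b hb => ⟨ea_le_centralizer_singleton hE3
      (mem_sup_left (mem_sup_left (mem_zpowers z))) hb, ea_le_centralizer_singleton hE3
      (mem_sup_left (mem_sup_right (mem_zpowers u))) hb⟩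
    refine SolvCores.card_ge_of_lt (k := 2) hE3 (lt_of_le_of_ne le_sup_left fun h' => hnot ?_) ?_
    · exact mem_four D.z2 hu2 (D.cen u huS).symm (h'.symm ▸ mem_sup_right (mem_zpowers y))
    · refine SolvCores.pair_card hEu D.z1 fun h' => ?_
      obtain ⟨i, hi⟩ := Subgroup.mem_zpowers_iff.1 h'
      rcases Int.even_or_odd' i with ⟨j, hj | hj⟩ <;> subst hj
      · rw [zpow_mul, zpow_two, D.z2, one_zpow] at hi; exact hu1 hi.symm
      · rw [zpow_add, zpow_mul, zpow_two, D.z2, one_zpow, one_mul, zpow_one] at hi; exact huz hi.symm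
  have hexp : ∀ y ∈ P, y * y = 1 := by
    intro y hy
    obtain ⟨j, hj⟩ := IsPGroup.iff_orderOf.1 S.isPGroup' ⟨y, hPS hy⟩
    rw [Subgroup.orderOf_mk] at hj
    rcases Nat.lt_or_ge j 2 with hj2 | hj2
    · rw [← pow_two]
      exact orderOf_dvd_iff_pow_eq_one.1 (hj ▸ (pow_dvd_pow 2 (by omega)).trans (by norm_num : 2 ^ 1 ∣ 2))
    set e := y ^ 2 ^ (j - 2) with he
    have he4 : e * e * (e * e) = 1 := by
      rw [he, ← pow_add, ← pow_add, show 2 ^ (j - 2) + 2 ^ (j - 2) + (2 ^ (j - 2) + 2 ^ (j - 2)) = 2 ^ j by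
        conv_rhs => rw [show j = j - 2 + 2 by omega, pow_add]
        ring, ← hj, pow_orderOf_eq_one]
    have he2 : e * e ≠ 1 := by
      intro h'
      rw [he, ← pow_add, ← orderOf_dvd_iff_pow_eq_one, hj,
        show 2 ^ (j - 2) + 2 ^ (j - 2) = 2 ^ (j - 2 + 1) by rw [pow_succ]; ring,
        Nat.pow_dvd_pow_iff_le_right (by norm_num)] at h'
      omega
    have heP : e ∈ P := pow_mem hy _
    rcases hinv _ (mul_mem heP heP) he4 with h' | h' | h' | h'
    · exact absurd h' he2
    · exact (hsq e heP (Or.inl h')).elim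
    · exact (hsq e heP (Or.inr (Or.inl h'))).elim
    · exact (hsq e heP (Or.inr (Or.inr h'))).elim
  -- `S` has maximal class
  have hCS : ∀ w ∈ (S : Subgroup G), w * u = u * w → w ∈ P := by
    have hle : ((S : Subgroup G) ⊓ centralizer ({u} : Set G)).map (MulAut.conj h⁻¹).toMonoidHom ≤ L := by
      rintro _ ⟨w, hw, rfl⟩
      have h1 := conj_mem_centralizer (g := h⁻¹) (D.sylow_le_centralizer hw.1)
      have h2 := conj_mem_centralizer (g := h⁻¹) hw.2
      rw [show h⁻¹ * z * h⁻¹⁻¹ = z by nth_rewrite 1 [← hzh]; group] at h1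
      rw [show h⁻¹ * u * h⁻¹⁻¹ = u₁ by rw [hu]; group] at h2
      exact ⟨h1, h2⟩
    set R := ((S : Subgroup G) ⊓ centralizer ({u} : Set G)).map (MulAut.conj h⁻¹).toMonoidHom with hR
    have hRp : IsPGroup 2 ↥(R.subgroupOf L) :=
      (((S.isPGroup'.to_le inf_le_left).map _)).comap_subtype
    have hPR : (P₀ : Subgroup ↥L) ≤ R.subgroupOf L := by
      intro y hy
      refine ⟨h * (y : G) * h⁻¹, ⟨hPS ⟨_, ⟨y, hy, rfl⟩, rfl⟩, hPC ⟨_, ⟨y, hy, rfl⟩, rfl⟩⟩, ?_⟩
      show h⁻¹ * (h * (y : G) * h⁻¹) * h⁻¹⁻¹ = y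
      group
    have heq := P₀.3 hRp hPR
    intro w hw hwu
    have hwR : h⁻¹ * w * h⁻¹⁻¹ ∈ R := ⟨w, ⟨hw, mem_centralizer_singleton_iff.2 hwu⟩, rfl⟩
    have hmem : (⟨_, hle hwR⟩ : ↥L) ∈ (P₀ : Subgroup ↥L) := heq ▸ hwR
    exact ⟨_, ⟨_, hmem, rfl⟩, by show h * (h⁻¹ * w * h⁻¹⁻¹) * h⁻¹ = w; group⟩
  have hmc := RankTwoSylow.maxClass_of_small (T := ↥(S : Subgroup G)) S.isPGroup' (x := ⟨u, huS⟩)
    (y := ⟨z, D.zS⟩) (Subtype.ext hu2) (fun h' => hu1 (congrArg Subtype.val h')) (Subtype.ext D.z2)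
    (fun h' => D.z1 (congrArg Subtype.val h')) (fun h' => huz (congrArg Subtype.val h'))
    (Subtype.ext (D.cen u huS)) fun w hw => by
      have hwu : (w : G) * u = u * w := congrArg Subtype.val hw
      have hwP := hCS w w.2 hwu
      rcases hinv _ hwP (hexp _ hwP) with h' | h' | h' | h'
      · exact Or.inl (Subtype.ext h')
      · exact Or.inr (Or.inr (Or.inl (Subtype.ext h')))
      · exact Or.inr (Or.inl (Subtype.ext h'))
      · exact Or.inr (Or.inr (Or.inr (Subtype.ext (h'.trans (D.cen u huS).symm))))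
  obtain ⟨B, hB, hBS, hB8⟩ := D.rank
  have := prankLE_two_of_maxClass hmc (B.subgroupOf (S : Subgroup G))
    (.of_setLike_mul_comm fun x hx y hy => Subtype.ext (ea_comm hB hx hy))
    fun x hx => Subtype.ext (by simpa using hB.2 (x : G) hx)
  rw [Nat.card_congr (subgroupOfEquivOfLe hBS).toEquiv] at this
  norm_num at this
  omega

end Dat

end Cfsg.Agent.Dichotomy
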