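import Cfsg.Agent.Lib.Dichotomy.Fusion
import Cfsg.Agent.S1221

/-!
In rank at least three, with constrained centralisers of involutions, no subgroup of index two and trivial
core, all cores of involution centralisers are trivial.
-/

set_option autoImplicit false
set_option linter.style.haveILetI false

universe u

namespace Cfsg.Agent.Dichotomy

open Subgroup Cfsg.Agent.Signalizer Cfsg.Agent.Signalizer.SFT

variable {G : Type u} [Group G] [Finite G]

/-- The cores of the involution centralisers vanish. -/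
theorem cores_trivial (h3 : ¬ Cfsg.PRankLE 2 2 G) (hO : Cfsg.oddCore G = ⊥) (hcon : AllConstrained G)
    (hdeep : ∀ t : G, orderOf t = 2 → IsDeep 2 t) {t : G} (ht : orderOf t = 2) :
    Cfsg.centralizerPPrimeCore 2 t = ⊥ := by
  haveI : Fact (Nat.Prime 2) := ⟨Nat.prime_two⟩
  obtain ⟨S⟩ : Nonempty (Sylow 2 G) := inferInstance
  obtain ⟨z, f, D⟩ := exists_dat h3 S
  have Θ : Equivariant 2 (oddC : G → Subgroup G) := equivariant_cores fun a ha =>
    ⟨Components.isPConstrained_iff_pLayer.1 (hcon a ha.1),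
      OddChar.oddSolvable _ (Nat.coprime_two_right.1 (Components.centralizerPPrimeCore_props (p := 2) a).2.2)⟩
  set W := thetaClosure oddC (zpowers z ⊔ zpowers f) with hW
  -- every involution lies in a rank three subgroup
  have hin : ∀ x : G, orderOf x = 2 →
      ∃ B : Subgroup G, x ∈ B ∧ Cfsg.IsElementaryAbelian 2 B ∧ 8 ≤ Nat.card B := by
    intro x hx
    obtain ⟨B, hBC, hB, hB8⟩ := prankLE_centralizer (hdeep x hx).2
    refine ⟨B ⊔ zpowers x, mem_sup_right (mem_zpowers x), ea_adjoin hB ?_ fun b hb =>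
      mem_centralizer_singleton_iff.1 (hBC hb), hB8.trans (card_le_of_le le_sup_left)⟩
    rw [← pow_two, ← hx, pow_orderOf_eq_one]
  by_cases hW1 : W = ⊥
  · obtain ⟨B, htB, hB, hB8⟩ := hin t ht
    have ht1 : t ≠ 1 := fun h => by rw [h, orderOf_one] at ht; exact absurd ht (by norm_num)
    obtain ⟨g, -, hg⟩ := SolvCores.exists_conj_le (S := S) (H := ⊤) le_top (ea_isPGroup hB) le_top
    have h := D.closure_const Θ (SolvCores.ea_map (MulAut.conj g).toMonoidHom hB) hg
      (by rwa [card_map_of_injective (MulAut.conj g).injective])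
    rw [Θ.closure_conj hB hB8, ← hW, hW1, map_eq_bot_iff_of_injective _ (MulAut.conj g).injective] at h
    exact le_bot_iff.1 ((le_iSup (fun b : {b : G // b ∈ B ∧ b ≠ 1} => oddC b.1) ⟨t, htB, ht1⟩).trans h.le)
  exfalso
  set H := normalizer (W : Set G) with hH
  have hSH : (S : Subgroup G) ≤ H := D.sylow_le_normalizer Θ
  have hWodd : ¬ 2 ∣ Nat.card ↥W := D.closure_odd Θ
  have hHne : H ≠ ⊤ := fun htop => hW1 (le_bot_iff.1 ((FittingCores.le_pPrimeCore
    (normalizer_eq_top_iff.1 htop) (Nat.prime_two.coprime_iff_not_dvd.2 hWodd).symm).trans hO.le))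
  have hC : ∀ x ∈ H, orderOf x = 2 → centralizer ({x} : Set G) ≤ H := by
    intro x₀ hx₀H hx₀
    obtain ⟨h, hhH, hhx⟩ := SolvCores.exists_conj_le hSH (P := zpowers x₀)
      (IsPGroup.of_card (n := 1) (p := 2) (by rw [Nat.card_zpowers, hx₀, pow_one])) (zpowers_le.2 hx₀H)
    set x := h * x₀ * h⁻¹ with hxdef
    suffices hmain : centralizer ({x} : Set G) ≤ H by
      intro y hy
      have := hmain (conj_mem_centralizer (g := h) hy)
      simpa [mul_assoc] using mul_mem (mul_mem (inv_mem hhH) this) hhH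
    have hxS : x ∈ (S : Subgroup G) := hhx ⟨x₀, mem_zpowers x₀, rfl⟩
    have hx : orderOf x = 2 := by rw [hxdef, Invol.order_conj, hx₀]
    have hx2 : x * x = 1 := by rw [← pow_two, ← hx, pow_orderOf_eq_one]
    have hx1 : x ≠ 1 := fun h1 => by rw [h1, orderOf_one] at hx; exact absurd hx (by norm_num)
    set K := centralizer ({x} : Set G) with hK
    have hzK : z ∈ K := mem_centralizer_singleton_iff.2 (D.cen x hxS).symm
    have hE := ea_four D.z2 hx2 (D.cen x hxS).symm
    obtain ⟨T, hT⟩ := ((ea_isPGroup hE).comap_subtype (K := K)).exists_le_sylow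
    set TG := (T : Subgroup ↥K).map K.subtype with hTG
    have hTp : IsPGroup 2 ↥TG := T.2.map K.subtype
    have hzT : z ∈ TG := ⟨⟨z, hzK⟩, hT (mem_sup_left (mem_zpowers z)), rfl⟩
    have hxT : x ∈ TG := ⟨⟨x, mem_centralizer_singleton_iff.2 rfl⟩,
      hT (mem_sup_right (mem_zpowers x)), rfl⟩
    obtain ⟨c, -, hc⟩ := SolvCores.exists_conj_le (S := S) (H := ⊤) le_top hTp le_top
    have hcH : c ∈ H := D.fusion Θ hcon (hSH (hc ⟨z, hzT, rfl⟩))
    have hTH : TG ≤ H := fun y hy => by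
      have := mul_mem (mul_mem (inv_mem hcH) (hSH (hc ⟨y, hy, rfl⟩))) hcH
      simpa [MulAut.conj_apply, mul_assoc] using this
    -- a rank three subgroup of the Sylow subgroup of `K`
    obtain ⟨B₀, hB₀C, hB₀, hB₀8⟩ := prankLE_centralizer (hdeep x hx).2
    obtain ⟨R, hR⟩ := ((ea_isPGroup hB₀).comap_subtype (K := K)).exists_le_sylow
    obtain ⟨k, hk⟩ := MulAction.exists_smul_eq (↥K) R T
    have hBT : B₀.map (MulAut.conj (k : G)).toMonoidHom ≤ TG := by
      rintro _ ⟨b, hb, rfl⟩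
      refine ⟨k * ⟨b, hB₀C hb⟩ * k⁻¹, ?_, rfl⟩
      have h1 : k * ⟨b, hB₀C hb⟩ * k⁻¹ ∈ (k • R : Sylow 2 ↥K) := by
        rw [Sylow.smul_def]
        exact ⟨_, hR hb, rfl⟩
      rwa [hk] at h1
    have hB1 : Cfsg.IsElementaryAbelian 2 (B₀.map (MulAut.conj (k : G)).toMonoidHom ⊔ zpowers x) := by
      refine ea_adjoin (SolvCores.ea_map _ hB₀) hx2 fun b hb => ?_
      exact mem_centralizer_singleton_iff.1 (map_subtype_le _ (hBT hb))
    have hθx : Cfsg.centralizerPPrimeCore 2 x ≤ W :=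
      (D.core_le Θ hB1 ((by rwa [card_map_of_injective (MulAut.conj (k : G)).injective] :
          8 ≤ Nat.card ↥(B₀.map (MulAut.conj (k : G)).toMonoidHom)).trans (card_le_of_le le_sup_left))
        ((sup_le hBT (zpowers_le.2 hxT)).trans hTH) (mem_sup_right (mem_zpowers x)) hx1).ge.trans inf_le_left
    -- a conjugate of `z` central in the Sylow subgroup
    set z' := c⁻¹ * z * c with hz'
    have hz'c : ∀ y ∈ TG, y * z' = z' * y := by
      intro y hy
      have hcy : c * y * c⁻¹ ∈ (S : Subgroup G) := hc ⟨y, hy, rfl⟩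
      calc y * z' = c⁻¹ * (c * y * c⁻¹ * z) * c := by rw [hz']; group
        _ = c⁻¹ * (z * (c * y * c⁻¹)) * c := by rw [D.cen _ hcy]
        _ = z' * y := by rw [hz']; group
    have hz'K : z' ∈ K := mem_centralizer_singleton_iff.2 (hz'c x hxT).symm
    have hz'2 : z' * z' = 1 := by
      calc z' * z' = c⁻¹ * (z * z) * c := by rw [hz']; group
        _ = 1 := by rw [D.z2]; group
    have hz'cT : ∀ a ∈ (T : Subgroup ↥K), a * ⟨z', hz'K⟩ = ⟨z', hz'K⟩ * a :=
      fun a ha => Subtype.ext (hz'c a ⟨a, ha, rfl⟩)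
    have hz'T : (⟨z', hz'K⟩ : ↥K) ∈ (T : Subgroup ↥K) := by
      have hp : IsPGroup 2 ↥((T : Subgroup ↥K) ⊔ zpowers (⟨z', hz'K⟩ : ↥K)) := by
        refine T.2.to_sup_of_normal_left' (IsPGroup.of_card (n := 1) (p := 2) ?_) ?_
        · rw [Nat.card_zpowers, pow_one]
          refine orderOf_eq_prime (Subtype.ext (by simpa [pow_two] using hz'2)) fun h1 => D.z1 ?_
          have h1' : c⁻¹ * z * c = 1 := congrArg Subtype.val h1
          calc z = c * (c⁻¹ * z * c) * c⁻¹ := by group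
            _ = 1 := by rw [h1']; group
        · refine zpowers_le.2 (centralizer_le_normalizer _ (mem_centralizer_iff.2 fun a ha => hz'cT a ha))
      exact T.3 hp le_sup_left ▸ mem_sup_right (mem_zpowers _)
    have hz'Q : (⟨z', hz'K⟩ : ↥K) ∈ PPrimePC.coreH 2 (T : Subgroup ↥K) :=
      ⟨hz'T, mem_of_central (hcon x hx) T hz'cT⟩
    have hsup := congrArg (Subgroup.map K.subtype) (PPrimePC.normalizer_sup_eq_top T)
    rw [Subgroup.map_sup, ← MonoidHom.range_eq_map, range_subtype] at hsup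
    refine hsup.ge.trans (sup_le ?_ (hθx.trans le_normalizer))
    rintro _ ⟨a, ha, rfl⟩
    have haz : (a : G) * z' * (a : G)⁻¹ ∈ H :=
      hTH ⟨a * ⟨z', hz'K⟩ * a⁻¹, ((mem_normalizer_iff.1 ha _).1 hz'Q).1, rfl⟩
    have : (a : G) * c⁻¹ ∈ H := D.fusion Θ hcon (by
      rw [show (a : G) * c⁻¹ * z * ((a : G) * c⁻¹)⁻¹ = (a : G) * z' * (a : G)⁻¹ by rw [hz']; group]
      exact haz)
    simpa using mul_mem this hcH
  have hN : normalizer ((((S.subtype hSH : Sylow 2 ↥H) : Subgroup H).map H.subtype : Subgroup G) : Set G) ≤ H := by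
    intro g hg
    obtain ⟨B, hB, hBS, hB8⟩ := D.rank
    refine D.key Θ hB hB8 (hBS.trans hSH) fun b hb => ?_
    rw [Sylow.coe_subtype, subgroupOf_map_subtype, inf_eq_left.2 hSH] at hg
    exact hSH ((mem_normalizer_iff.1 hg b).1 (hBS hb))
  have hSE : Cfsg.IsStronglyEmbedded H :=
    Invol.se_of_centralizers hHne (S.subtype hSH) (Invol.even_of_invol_mem D.zord (hSH D.zS)) hN hC
  refine hW1 (le_bot_iff.1 ?_)
  have hle : W.subgroupOf H ≤ Cfsg.oddCore ↥H := by
    refine FittingCores.le_pPrimeCore ((normal_subgroupOf_iff_le_normalizer le_normalizer).2 le_rfl) ?_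
    rw [Nat.card_congr (subgroupOfEquivOfLe le_normalizer).toEquiv]
    exact (Nat.prime_two.coprime_iff_not_dvd.2 hWodd).symm
  intro w hw
  exact hO.le (S1221.result H hSE ⟨⟨w, le_normalizer hw⟩, hle hw, rfl⟩)

end Cfsg.Agent.Dichotomy
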