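import Cfsg.Agent.Lib.Dichotomy.Basic
import Cfsg.Agent.Lib.SolvCores.Main
import Cfsg.Agent.Lib.TwoGroups.NormalFour

/-!
The standing data of the dichotomy theorem: a normal four group of a Sylow 2-subgroup of rank at least
three and the closure of the cores over it.
-/

set_option autoImplicit false
set_option linter.style.haveILetI false

universe u

namespace Cfsg.Agent.Dichotomy

open Subgroup Cfsg.Agent.Signalizer Cfsg.Agent.Signalizer.SFT

variable {G : Type u} [Group G] [Finite G]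

/-- A Sylow subgroup of rank at least three, a central involution `z` and a second involution `f`
with `[S, f] ≤ ⟨z⟩`. -/
structure Dat (S : Sylow 2 G) (z f : G) : Prop where
  zS : z ∈ (S : Subgroup G)
  fS : f ∈ (S : Subgroup G)
  z2 : z * z = 1
  z1 : z ≠ 1
  f2 : f * f = 1
  f1 : f ≠ 1
  fz : f ≠ z
  cen : ∀ s ∈ (S : Subgroup G), s * z = z * s
  fconj : ∀ s ∈ (S : Subgroup G), s * f * s⁻¹ = f ∨ s * f * s⁻¹ = z * f
  alt : (∀ s ∈ (S : Subgroup G), s * f = f * s) ∨
    ∀ w ∈ (S : Subgroup G), w * w = 1 → w ≠ 1 → (∀ s ∈ (S : Subgroup G), s * w = w * s) → w = z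
  rank : ∃ B : Subgroup G, Cfsg.IsElementaryAbelian 2 B ∧ B ≤ S ∧ 8 ≤ Nat.card B

/-- Existence of the data. -/
theorem exists_dat (h3 : ¬ Cfsg.PRankLE 2 2 G) (S : Sylow 2 G) : ∃ z f, Dat S z f := by
  haveI : Fact (Nat.Prime 2) := ⟨Nat.prime_two⟩
  simp only [Cfsg.PRankLE, not_forall, not_le] at h3
  obtain ⟨A, hAc, hA2, hA⟩ := h3
  have hAe : Cfsg.IsElementaryAbelian 2 A := ⟨hAc, hA2⟩
  obtain ⟨g, -, hg⟩ := SolvCores.exists_conj_le (S := S) (H := ⊤) le_top (ea_isPGroup hAe) le_top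
  set B := A.map (MulAut.conj g).toMonoidHom with hBdef
  have hB : Cfsg.IsElementaryAbelian 2 B := SolvCores.ea_map _ hAe
  have hB8 : 8 ≤ Nat.card B := by
    refine SolvCores.eight_le hB ?_
    rw [hBdef, card_map_of_injective (MulAut.conj g).injective]
    exact hA
  have hrank : ∃ B : Subgroup G, Cfsg.IsElementaryAbelian 2 B ∧ B ≤ S ∧ 8 ≤ Nat.card B :=
    ⟨B, hB, hg, hB8⟩
  obtain ⟨z, hz⟩ : ∃ z : G, z ∈ (S : Subgroup G) ∧ z * z = 1 ∧ z ≠ 1 ∧
      ∀ s ∈ (S : Subgroup G), s * z = z * s := by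
    have hne : (⊤ : Subgroup ↥(S : Subgroup G)) ≠ ⊥ := by
      intro h
      have h' := card_le_of_le hg
      rw [← card_top (G := ↥(S : Subgroup G)), h, card_bot] at h'
      omega
    obtain ⟨w, -, hw, hwc⟩ := NormalFour.exists_central_mem S.isPGroup' hne
    refine ⟨w, w.2, ?_, ?_, fun s hs => congrArg Subtype.val (mem_center_iff.1 hwc ⟨s, hs⟩)⟩
    · have := pow_orderOf_eq_one w
      rw [hw, pow_two] at this
      exact congrArg Subtype.val this
    · rintro h
      rw [show w = 1 from Subtype.ext h, orderOf_one] at hw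
      exact absurd hw (by norm_num)
  obtain ⟨hzS, hz2, hz1, hzc⟩ := hz
  by_cases hc : ∃ w ∈ (S : Subgroup G), w * w = 1 ∧ w ≠ 1 ∧ w ≠ z ∧
      ∀ s ∈ (S : Subgroup G), s * w = w * s
  · obtain ⟨w, hwS, hw2, hw1, hwz, hwc⟩ := hc
    exact ⟨z, w, hzS, hwS, hz2, hz1, hw2, hw1, hwz, hzc,
      fun s hs => Or.inl (by rw [hwc s hs, mul_inv_cancel_right]), Or.inl hwc, hrank⟩
  push Not at hc
  have halt : ∀ w ∈ (S : Subgroup G), w * w = 1 → w ≠ 1 → (∀ s ∈ (S : Subgroup G), s * w = w * s) →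
      w = z := by
    intro w hw h2 h1 hwc
    by_contra hne
    obtain ⟨s, hs, hs'⟩ := hc w hw h2 h1 hne
    exact hs' (hwc s hs)
  obtain ⟨F, hFB, hFc⟩ : ∃ F ≤ B, Nat.card F = 8 := by
    obtain ⟨k, hk⟩ := (ea_isPGroup hB).exists_card_eq
    have hk3 : 3 ≤ k := by
      by_contra hlt
      have := Nat.pow_le_pow_right two_pos (show k ≤ 2 by omega)
      rw [hk] at hB8
      omega
    obtain ⟨F, hF⟩ := Sylow.exists_subgroup_card_pow_prime 2 (G := ↥B) (n := 3)
      (hk ▸ pow_dvd_pow 2 hk3)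
    exact ⟨F.map B.subtype, map_subtype_le F, by rw [card_map_of_injective B.subtype_injective, hF]; norm_num⟩
  obtain ⟨V, hVn, hV4, hV2⟩ := NormalFour.exists_normal_four S.isPGroup'
    (E := F.subgroupOf (S : Subgroup G))
    ((Nat.card_congr (subgroupOfEquivOfLe (hFB.trans hg)).toEquiv).trans hFc)
    (fun e he => Subtype.ext (by rw [Subgroup.coe_mul, ← pow_two]; exact hB.2 _ (hFB he)))
  haveI := hVn
  obtain ⟨w, hwV, hw, hwc⟩ := NormalFour.exists_central_mem S.isPGroup' (N := V)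
    (fun h => by rw [h, card_bot] at hV4; omega)
  have hw1 : w ≠ 1 := by rintro rfl; rw [orderOf_one] at hw; exact absurd hw (by norm_num)
  have hwz : (w : G) = z := by
    refine halt w w.2 (congrArg Subtype.val (hV2 w hwV)) (fun h => hw1 (Subtype.ext h)) fun s hs => ?_
    exact congrArg Subtype.val (mem_center_iff.1 hwc ⟨s, hs⟩)
  obtain ⟨v, hvV, hvw⟩ : ∃ v ∈ V, v ∉ zpowers w := by
    by_contra! hall
    have := card_le_of_le (show V ≤ zpowers w from hall)
    rw [Nat.card_zpowers, hw, hV4] at this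
    omega
  have hv1 : v ≠ 1 := fun h => hvw (h ▸ one_mem _)
  have hVeq : V = zpowers w ⊔ zpowers v := by
    refine (eq_of_le_of_card_ge (sup_le (zpowers_le.2 hwV) (zpowers_le.2 hvV)) (hV4.le.trans ?_)).symm
    exact SolvCores.pair_card (ea_four (hV2 w hwV) (hV2 v hvV) (mem_center_iff.1 hwc v).symm) hw1 hvw
  refine ⟨z, v, hzS, v.2, hz2, hz1, congrArg Subtype.val (hV2 v hvV),
    fun h => hv1 (Subtype.ext h), fun h => hvw ((Subtype.ext (h.trans hwz.symm) : v = w) ▸ mem_zpowers w),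
    hzc, fun s hs => ?_, Or.inr halt, hrank⟩
  have hconj : (⟨s, hs⟩ : ↥(S : Subgroup G)) * v * ⟨s, hs⟩⁻¹ ∈ zpowers w ⊔ zpowers v := by
    rw [← hVeq]; exact hVn.conj_mem v hvV _
  rcases mem_four (hV2 w hwV) (hV2 v hvV) (mem_center_iff.1 hwc v).symm hconj with h | h | h | h
  · exact absurd (conj_eq_one_iff.1 h) hv1
  · refine absurd ?_ hvw
    have hv : v = w := by
      calc v = (⟨s, hs⟩ : ↥(S : Subgroup G))⁻¹ * (⟨s, hs⟩ * v * ⟨s, hs⟩⁻¹) * ⟨s, hs⟩ := by group
        _ = w := by rw [h, mul_assoc, ← mem_center_iff.1 hwc ⟨s, hs⟩, inv_mul_cancel_left]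
    exact hv ▸ mem_zpowers w
  · exact Or.inl (congrArg Subtype.val h)
  · exact Or.inr ((congrArg Subtype.val h).trans (by rw [Subgroup.coe_mul, hwz]))

/-- The odd cores of the involution centralisers. -/
abbrev oddC {H : Type u} [Group H] : H → Subgroup H := fun t => Cfsg.centralizerPPrimeCore 2 t

local notation "θ" => oddC

namespace Dat

variable {S : Sylow 2 G} {z f : G} (D : Dat S z f)



include D

theorem comm : z * f = f * z := (D.cen f D.fS).symm

theorem swap : Dat S z (z * f) where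
  zS := D.zS
  fS := mul_mem D.zS D.fS
  z2 := D.z2
  z1 := D.z1
  f2 := by rw [mul_assoc, ← mul_assoc f, ← D.comm, mul_assoc z f f, D.f2, mul_one, D.z2]
  f1 := fun h => D.fz (mul_left_cancel (h.trans D.z2.symm))
  fz := fun h => D.f1 (mul_left_cancel (a := z) (by rw [h, mul_one]))
  cen := D.cen
  fconj := fun s hs => by
    have e : s * (z * f) * s⁻¹ = z * (s * f * s⁻¹) := by
      rw [← mul_assoc s z f, D.cen s hs]; group
    rcases D.fconj s hs with h | h <;> rw [e, h]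
    · exact Or.inl rfl
    · exact Or.inr rfl
  alt := D.alt.imp (fun h s hs => by
    rw [← mul_assoc, D.cen s hs, mul_assoc, h s hs, mul_assoc]) id
  rank := D.rank

/-- The four group. -/
theorem four_ea : Cfsg.IsElementaryAbelian 2 (zpowers z ⊔ zpowers f) := ea_four D.z2 D.f2 D.comm

theorem four_le : zpowers z ⊔ zpowers f ≤ (S : Subgroup G) :=
  sup_le (zpowers_le.2 D.zS) (zpowers_le.2 D.fS)

theorem four_card : 4 ≤ Nat.card ↥(zpowers z ⊔ zpowers f) := by
  refine SolvCores.pair_card D.four_ea D.z1 fun h => ?_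
  rcases Subgroup.mem_zpowers_iff.1 h with ⟨i, hi⟩
  rcases Int.even_or_odd' i with ⟨k, hk | hk⟩ <;> subst hk
  · rw [zpow_mul, zpow_two, D.z2, one_zpow] at hi; exact D.f1 hi.symm
  · rw [zpow_add, zpow_mul, zpow_two, D.z2, one_zpow, one_mul, zpow_one] at hi; exact D.fz hi.symm

theorem four_mem {x : G} (hx : x ∈ zpowers z ⊔ zpowers f) : x = 1 ∨ x = z ∨ x = f ∨ x = z * f :=
  mem_four D.z2 D.f2 D.comm hx

/-- The square of an element of `S` centralises `f`. -/
theorem sq_comm {s : G} (hs : s ∈ (S : Subgroup G)) : s * s * f = f * (s * s) := by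
  have h : s * s * f * (s * s)⁻¹ = f := by
    have e : s * s * f * (s * s)⁻¹ = s * (s * f * s⁻¹) * s⁻¹ := by group
    rcases D.fconj s hs with h | h <;> rw [e, h]
    · exact h
    · rw [← mul_assoc s z f, D.cen s hs, show z * s * f * s⁻¹ = z * (s * f * s⁻¹) by group, h,
        ← mul_assoc, D.z2, one_mul]
  exact mul_inv_eq_iff_eq_mul.1 h

/-- The centraliser of `f` has index at most two in every subgroup of `S`. -/
theorem half {B : Subgroup G} (hB : B ≤ (S : Subgroup G)) :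
    Nat.card B ≤ 2 * Nat.card ↥(B ⊓ centralizer ({f} : Set G)) := by
  set C := B ⊓ centralizer ({f} : Set G) with hC
  by_cases h : ∀ b ∈ B, b * f * b⁻¹ = f
  · have : B ≤ C := fun b hb => ⟨hb, mem_centralizer_singleton_iff.2 (mul_inv_eq_iff_eq_mul.1 (h b hb))⟩
    have := card_le_of_le this
    omega
  push Not at h
  obtain ⟨b₀, hb₀, hne⟩ := h
  have hb₀' : b₀ * f * b₀⁻¹ = z * f := (D.fconj b₀ (hB hb₀)).resolve_left hne
  rw [show 2 * Nat.card C = Nat.card (Bool × C) by simp [Nat.card_prod]]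
  refine Nat.card_le_card_of_surjective (fun p : Bool × C =>
    (⟨(if p.1 then b₀ else 1) * p.2, show _ ∈ B from mul_mem (by split <;> simp [hb₀]) p.2.2.1⟩ : B)) fun b => ?_
  rcases D.fconj b (hB b.2) with h | h
  · exact ⟨(false, ⟨b, b.2, mem_centralizer_singleton_iff.2 (mul_inv_eq_iff_eq_mul.1 h)⟩),
      Subtype.ext (by simp)⟩
  · refine ⟨(true, ⟨b₀⁻¹ * b, show b₀⁻¹ * (b : G) ∈ B from mul_mem (inv_mem hb₀) b.2, mem_centralizer_singleton_iff.2 ?_⟩),
      Subtype.ext (by simp)⟩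
    rw [mul_assoc, mul_inv_eq_iff_eq_mul.1 (h.trans hb₀'.symm)]
    group

/-- A rank three subgroup of `S` is linked to the four group. -/
theorem link {B : Subgroup G} (hB : Cfsg.IsElementaryAbelian 2 B) (hBS : B ≤ S) (hB8 : 8 ≤ Nat.card B) :
    zpowers z ⊔ zpowers f ≤ B ∨
      ∃ B' C : Subgroup G, Cfsg.IsElementaryAbelian 2 B' ∧ 8 ≤ Nat.card B' ∧ B' ≤ S ∧
        4 ≤ Nat.card C ∧ C ≤ B ∧ C ≤ B' ∧ zpowers z ⊔ zpowers f ≤ B' := by
  set C := B ⊓ centralizer ({f} : Set G) with hC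
  have hC4 : 4 ≤ Nat.card C := by
    have : Nat.card B ≤ 2 * Nat.card C := D.half hBS
    omega
  have hCS : C ≤ (S : Subgroup G) := inf_le_left.trans hBS
  have hB' : Cfsg.IsElementaryAbelian 2 (C ⊔ zpowers z ⊔ zpowers f) := by
    refine ea_adjoin (ea_adjoin (ea_mono hB inf_le_left) D.z2 fun c hc => D.cen c (hCS hc)) D.f2 ?_
    intro b hb
    have hle : C ⊔ zpowers z ≤ centralizer ({f} : Set G) :=
      sup_le inf_le_right (zpowers_le.2 (mem_centralizer_singleton_iff.2 D.comm))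
    exact mem_centralizer_singleton_iff.1 (hle hb)
  have hB'S : C ⊔ zpowers z ⊔ zpowers f ≤ (S : Subgroup G) := by
    rw [sup_assoc]; exact sup_le hCS D.four_le
  rcases le_or_gt 5 (Nat.card ↥(C ⊔ zpowers z ⊔ zpowers f)) with h5 | h5
  · exact Or.inr ⟨_, C, hB', SolvCores.eight_le hB' h5, hB'S, hC4, inf_le_left,
      le_sup_of_le_left le_sup_left, sup_le (le_sup_of_le_left le_sup_right) le_sup_right⟩
  · left
    have h1 : C = C ⊔ zpowers z ⊔ zpowers f :=
      eq_of_le_of_card_ge (le_sup_of_le_left le_sup_left) (by omega)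
    calc zpowers z ⊔ zpowers f ≤ C ⊔ zpowers z ⊔ zpowers f :=
          sup_le (le_sup_of_le_left le_sup_right) le_sup_right
      _ = C := h1.symm
      _ ≤ B := inf_le_left

theorem exists_eight : ∃ B : Subgroup G, Cfsg.IsElementaryAbelian 2 B ∧ 8 ≤ Nat.card B ∧ B ≤ S ∧
    zpowers z ⊔ zpowers f ≤ B := by
  obtain ⟨B, hB, hBS, hB8⟩ := D.rank
  rcases D.link hB hBS hB8 with h | ⟨B', -, hB', hB'8, hB'S, -, -, -, h⟩
  · exact ⟨B, hB, hB8, hBS, h⟩
  · exact ⟨B', hB', hB'8, hB'S, h⟩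

variable (Θ : Equivariant 2 (oddC : G → Subgroup G))
include Θ

/-- The closure is the same over all rank three subgroups of `S`. -/
theorem closure_const {B : Subgroup G} (hB : Cfsg.IsElementaryAbelian 2 B) (hBS : B ≤ S)
    (hB8 : 8 ≤ Nat.card B) : thetaClosure θ B = thetaClosure θ (zpowers z ⊔ zpowers f) := by
  haveI : Fact (Nat.Prime 2) := ⟨Nat.prime_two⟩
  rcases D.link hB hBS hB8 with h | ⟨B', C, hB', hB'8, -, hC4, hCB, hCB', h⟩
  · exact Θ.closure_eq D.four_card h hB hB8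
  · rw [Θ.closure_eq hC4 hCB hB hB8, ← Θ.closure_eq hC4 hCB' hB' hB'8, Θ.closure_eq D.four_card h hB' hB'8]

theorem sylow_le_normalizer :
    (S : Subgroup G) ≤ normalizer (thetaClosure θ (zpowers z ⊔ zpowers f) : Set G) := by
  haveI : Fact (Nat.Prime 2) := ⟨Nat.prime_two⟩
  intro s hs
  obtain ⟨B, hB, hBS, hB8⟩ := D.rank
  rw [mem_normalizer_iff_map_conj_eq]
  show (thetaClosure θ (zpowers z ⊔ zpowers f)).map (MulAut.conj s).toMonoidHom = _
  nth_rewrite 1 [← D.closure_const Θ hB hBS hB8]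
  rw [← Θ.closure_conj hB hB8 s]
  refine D.closure_const Θ (SolvCores.ea_map _ hB) ?_ (by rwa [card_map_of_injective (MulAut.conj s).injective])
  rintro _ ⟨b, hb, rfl⟩
  exact mul_mem (mul_mem hs (hBS hb)) (inv_mem hs)

theorem closure_of_le {B : Subgroup G} (hB : Cfsg.IsElementaryAbelian 2 B) (hB8 : 8 ≤ Nat.card B)
    (hBH : B ≤ normalizer (thetaClosure θ (zpowers z ⊔ zpowers f) : Set G)) :
    thetaClosure θ B = thetaClosure θ (zpowers z ⊔ zpowers f) := by
  haveI : Fact (Nat.Prime 2) := ⟨Nat.prime_two⟩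
  obtain ⟨g, hgH, hg⟩ := SolvCores.exists_conj_le (D.sylow_le_normalizer Θ) (ea_isPGroup hB) hBH
  have h := D.closure_const Θ (SolvCores.ea_map (MulAut.conj g).toMonoidHom hB) hg
    (by rwa [card_map_of_injective (MulAut.conj g).injective])
  rw [Θ.closure_conj hB hB8] at h
  refine Subgroup.map_injective (MulAut.conj g).injective (h.trans ?_)
  exact ((mem_normalizer_iff_map_conj_eq (H := thetaClosure θ (zpowers z ⊔ zpowers f))).1 hgH).symm

/-- A rank three subgroup normalises the closure of one point only. -/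
theorem key {B : Subgroup G} (hB : Cfsg.IsElementaryAbelian 2 B) (hB8 : 8 ≤ Nat.card B)
    (hBH : B ≤ normalizer (thetaClosure θ (zpowers z ⊔ zpowers f) : Set G)) {g : G}
    (hg : ∀ b ∈ B, g * b * g⁻¹ ∈ normalizer (thetaClosure θ (zpowers z ⊔ zpowers f) : Set G)) :
    g ∈ normalizer (thetaClosure θ (zpowers z ⊔ zpowers f) : Set G) := by
  haveI : Fact (Nat.Prime 2) := ⟨Nat.prime_two⟩
  rw [mem_normalizer_iff_map_conj_eq]
  show (thetaClosure θ (zpowers z ⊔ zpowers f)).map (MulAut.conj g).toMonoidHom = _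
  nth_rewrite 1 [← D.closure_of_le Θ hB hB8 hBH]
  rw [← Θ.closure_conj hB hB8 g]
  refine D.closure_of_le Θ (SolvCores.ea_map _ hB) (by rwa [card_map_of_injective (MulAut.conj g).injective]) ?_
  rintro _ ⟨b, hb, rfl⟩
  exact hg b hb

theorem core_le {B : Subgroup G} (hB : Cfsg.IsElementaryAbelian 2 B) (hB8 : 8 ≤ Nat.card B)
    (hBH : B ≤ normalizer (thetaClosure θ (zpowers z ⊔ zpowers f) : Set G)) {a : G} (ha : a ∈ B)
    (ha1 : a ≠ 1) :
    thetaClosure θ (zpowers z ⊔ zpowers f) ⊓ centralizer ({a} : Set G) =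
      Cfsg.centralizerPPrimeCore 2 a := by
  haveI : Fact (Nat.Prime 2) := ⟨Nat.prime_two⟩
  rw [← D.closure_of_le Θ hB hB8 hBH]
  exact (iSup_props hB hB8 (Θ.functor hB hB8)).2 a ha ha1

theorem closure_odd : ¬ 2 ∣ Nat.card ↥(thetaClosure θ (zpowers z ⊔ zpowers f)) := by
  haveI : Fact (Nat.Prime 2) := ⟨Nat.prime_two⟩
  obtain ⟨B, hB, hBS, hB8⟩ := D.rank
  rw [← D.closure_const Θ hB hBS hB8]
  exact (iSup_props hB hB8 (Θ.functor hB hB8)).1.2.1

end Dat

end Cfsg.Agent.Dichotomy
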